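import Groth.Agent.QGorUnit.Hartogs
import Groth.Agent.Divisors.BlowUpBasic
import Groth.Agent.RhoShLib.CartierCompl
import Groth.Agent.PicAux.EffCartierLine
import Groth.Agent.PicAux.Powers
import Groth.Agent.RefRank.DivSheaf
import Groth.Agent.QCohMod.TensorStalk
import Groth.Prelude.Def_KoszTw
import Groth.Prelude.Def_RegImm

/-! The direct image of the inverse of the exceptional ideal of a blowing up in a centre of depth two. -/

set_option autoImplicit false
set_option linter.style.haveILetI false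

universe u

open CategoryTheory AlgebraicGeometry TopologicalSpace Opposite

noncomputable section

namespace Groth.BlowUpPush

open Groth.QCohMod Groth.RefRank

variable {X : Scheme.{u}}

/-- An ideal sheaf is the structure sheaf off its support. -/
theorem bijective_idealModι (I : X.IdealSheafData) {x : X} (hx : x ∉ I.support) :
    Function.Bijective (RefHull.stalkMapₗ (ClSub.idealModι I) x) := by
  have hinj : Function.Injective (RefHull.stalkMapₗ (ClSub.idealModι I) x) := by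
    haveI : Mono (ClSub.idealModι I) := Limits.equalizer.ι_mono
    haveI : Mono ((QCohMod.stalk x).map (ClSub.idealModι I)) := inferInstance
    exact (AddCommGrpCat.mono_iff_injective ((QCohMod.stalk x).map (ClSub.idealModι I))).1 inferInstance
  refine ⟨hinj, fun c => ?_⟩
  obtain ⟨_, ⟨U, hU, rfl⟩, hxU, -⟩ := X.isBasis_affineOpens.exists_subset_of_mem_open
    (Set.mem_univ x) isOpen_univ
  rw [Scheme.IdealSheafData.mem_support_iff_of_mem (U := ⟨U, hU⟩) hxU, Scheme.mem_zeroLocus_iff] at hx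
  push Not at hx
  obtain ⟨s, hs, hxs⟩ := hx
  obtain ⟨k, rfl⟩ := Groth.OmegaSheaf.exists_idealSect I ⟨U, hU⟩ hs
  obtain ⟨u, hu⟩ := (Scheme.mem_basicOpen X _ x hxU).mp hxs
  refine ⟨((oneEquiv x).symm c * ↑u⁻¹) • germ _ x hxU k, (oneEquiv x).symm.injective ?_⟩
  change incl I x _ = _
  rw [map_smul, incl_germ, smul_eq_mul, ← hu, mul_assoc, Units.inv_mul, mul_one]

/-- Tensoring preserves stalkwise bijectivity. -/
theorem bijective_tensorMap_id (L : X.Modules) {M N : X.Modules} (g : M ⟶ N) (x : X)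
    (hg : Function.Bijective (RefHull.stalkMapₗ g x)) :
    Function.Bijective (RefHull.stalkMapₗ (KoszTw.tensorMap (𝟙 L) g) x) := by
  let e := LinearEquiv.ofBijective (RefHull.stalkMapₗ g x) hg
  have h : ∀ z, RefHull.stalkMapₗ (KoszTw.tensorMap (𝟙 L) g) x (stalkTensorEquiv L M x z) =
      stalkTensorEquiv L N x (TensorProduct.congr (LinearEquiv.refl _ _) e z) := by
    intro z
    induction z using TensorProduct.induction_on with
    | zero => simp
    | tmul s t =>
      obtain ⟨W, hW, a, b, rfl, rfl⟩ := exists_common_germ x s t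
      rw [stalkTensorEquiv_tmul, TensorProduct.congr_tmul, LinearEquiv.refl_apply]
      refine (RefHull.stalkMapₗ_germ _ x hW _).trans ?_
      rw [LinearEquiv.ofBijective_apply]
      rw [show RefHull.stalkMapₗ g x (germ M x hW b) = germ N x hW (g.app W b) from
        RefHull.stalkMapₗ_germ g x hW b, stalkTensorEquiv_tmul]
      congr 1
      rw [← secTwist_tmul_eq, KoszTw.tensorMap_tmul]
      rfl
    | add a b ha hb => simp [map_add, ha, hb]
  have hf : ⇑(RefHull.stalkMapₗ (KoszTw.tensorMap (𝟙 L) g) x) = ⇑((stalkTensorEquiv L M x).symm.trans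
      ((TensorProduct.congr (LinearEquiv.refl _ _) e).trans (stalkTensorEquiv L N x))) := by
    funext w
    rw [← (stalkTensorEquiv L M x).apply_symm_apply w, h]
    simp
  rw [hf]
  exact LinearEquiv.bijective _

/-- Injectivity of restriction is a stalkwise-local property. -/
theorem res_injective_of_isInvertible {J : X.IdealSheafData} (hJ : BlowUp.IsEffCartierIdeal J)
    {L : X.Modules} (hL : PicF.IsInvertible L) (W : X.Opens) :
    Function.Injective (res L (inf_le_left : W ⊓ J.support.compl ≤ W)) := by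
  refine (injective_iff_map_eq_zero _).2 fun s hs => mod_section_ext L fun x hx => ?_
  obtain ⟨V, k, hxV, hk⟩ : ∃ (V : X.Opens) (k : Γ(L, V)), x ∈ V ∧ Groth.PicAux.Gen L V k :=
    (Groth.PicAux.isInvertible_iff_exists_gen _).1 hL x
  obtain ⟨r, hr⟩ := hk.exists_coeff (inf_le_right : W ⊓ V ≤ V) (res L inf_le_left s)
  have h0 : r = 0 := by
    refine RhoShLib.res_injective_compl hJ (W ⊓ V) ?_
    rw [map_zero]
    refine hk.smul_inj (inf_le_left.trans inf_le_right : (W ⊓ V) ⊓ J.support.compl ≤ V) ?_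
    rw [zero_smul]
    have h1 := congrArg (res L (inf_le_left : (W ⊓ V) ⊓ J.support.compl ≤ W ⊓ V)) hr
    have h3 : res L (inf_le_left : (W ⊓ V) ⊓ J.support.compl ≤ W ⊓ V) (res L inf_le_left s) = 0 := by
      rw [res_res, ← res_res L (inf_le_left : W ⊓ J.support.compl ≤ W)
        (inf_le_inf_right _ inf_le_left), hs, map_zero]
    refine Eq.trans ?_ (h1.symm.trans h3)
    erw [res_smul]
    congr 1
    exact (res_res L (inf_le_right : W ⊓ V ≤ V) (inf_le_left : (W ⊓ V) ⊓ J.support.compl ≤ W ⊓ V) k).symm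
  have h2 : res L (inf_le_left : W ⊓ V ≤ W) s = 0 := by rw [hr, h0, zero_smul]
  rw [map_zero, ← germ_res L (inf_le_left : W ⊓ V ≤ W) x ⟨hx, hxV⟩, h2, map_zero]

/-- The main statement. -/
theorem nonempty_push_iso {Y : Scheme.{u}} [IsLocallyNoetherian Y] {I : Y.IdealSheafData}
    [QuasiCompact (Divisors.complOpens I).ι]
    (hdepth : ∀ y : Y, y ∈ I.support → (2 : ℕ∞) ≤ LocCoh.depth (Y.presheaf.stalk y) (Y.presheaf.stalk y))
    {σ : X ⟶ Y} (hσ : BlowUp.IsBlowUp σ I)
    (L : X.Modules) (hL : ClSub.IsInverseOf L (ClSub.idealMod (I.comap σ))) :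
    Nonempty ((Scheme.Modules.pushforward σ).obj L ≅ Coh.structureModule Y) := by
  set J := I.comap σ with hJdef
  have hJ : BlowUp.IsEffCartierIdeal J := hσ.1
  set U := Divisors.complOpens I with hUdef
  have hpre : σ ⁻¹ᵁ U = J.support.compl := by
    ext x
    exact (Divisors.not_mem_comap_support_iff (I := I) (b := σ) x).symm
  obtain ⟨eL⟩ := hL
  have hLi : PicF.IsInvertible L := PicAux.isInvertible_of_isInverseOf (PicAux.isInvertible_idealMod hJ)
    (PicAux.isInverseOf_symm ⟨eL⟩)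
  let φ : Coh.structureModule X ⟶ L :=
    eL.inv ≫ KoszTw.tensorMap (𝟙 L) (ClSub.idealModι J) ≫ (SecTwist.unitorR L).hom
  have hφ : ∀ x : X, x ∉ J.support → Function.Bijective (RefHull.stalkMapₗ φ x) := fun x hx => by
    have h1 := (isIso_iff_bijective_stalk eL.inv).1 inferInstance x
    have h3 := (isIso_iff_bijective_stalk (SecTwist.unitorR L).hom).1 inferInstance x
    have hc : ⇑(RefHull.stalkMapₗ φ x) = ⇑(RefHull.stalkMapₗ (SecTwist.unitorR L).hom x) ∘
        ⇑(RefHull.stalkMapₗ (KoszTw.tensorMap (𝟙 L) (ClSub.idealModι J)) x) ∘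
        ⇑(RefHull.stalkMapₗ eL.inv x) := by
      funext v
      obtain ⟨W, hW, m, rfl⟩ := exists_germ _ x v
      simp only [Function.comp_apply]
      erw [RefHull.stalkMapₗ_germ, RefHull.stalkMapₗ_germ, RefHull.stalkMapₗ_germ, RefHull.stalkMapₗ_germ]
      rfl
    rw [hc]
    exact h3.comp ((bijective_tensorMap_id L _ x (bijective_idealModι J hx)).comp h1)
  haveI hres : IsIso ((Scheme.Modules.restrictFunctor (σ ⁻¹ᵁ U).ι).map φ) :=
    RhoShLib.isIso_restrict_of_stalk φ (σ ⁻¹ᵁ U) fun x hx => hφ x (hpre.le hx)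
  haveI := Divisors.isIso_morphismRestrict_compl hσ
  let u : Coh.structureModule Y ⟶ (Scheme.Modules.pushforward σ).obj L :=
    ClSub.unitToPush σ ≫ (Scheme.Modules.pushforward σ).map φ
  suffices IsIso u from ⟨(asIso u).symm⟩
  rw [Scheme.Modules.Hom.isIso_iff_isIso_app]
  intro W
  rw [ConcreteCategory.isIso_iff_bijective]
  have hgood := QGorUnit.goodRes_structure_of_depth (U := U) (fun y hy => hdepth y (not_not.1 hy)) W
  have hσapp : Function.Bijective (σ.app (W ⊓ U)) := by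
    haveI : IsIso (σ.app (W ⊓ U)) := by
      have key : ∀ V : Y.Opens, U.ι ''ᵁ (U.ι ⁻¹ᵁ V) = W ⊓ U → IsIso (σ.app (W ⊓ U)) := by
        intro V hV
        haveI hi : IsIso ((σ ∣_ U).app (U.ι ⁻¹ᵁ V)) := inferInstance
        rw [morphismRestrict_app] at hi
        haveI h2 : IsIso (σ.app (U.ι ''ᵁ (U.ι ⁻¹ᵁ V))) := @IsIso.of_isIso_comp_right _ _ _ _ _ (σ.app (U.ι ''ᵁ (U.ι ⁻¹ᵁ V))) _ (Functor.map_isIso _ _) hi
        exact hV ▸ h2
      exact key W (by
        rw [Scheme.Hom.image_preimage_eq_opensRange_inf, Scheme.Opens.opensRange_ι, inf_comm])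
    exact ConcreteCategory.bijective_of_isIso _
  have hφapp : Function.Bijective (φ.app (σ ⁻¹ᵁ (W ⊓ U))) := by
    haveI := Scheme.Modules.Hom.isIso_iff_isIso_app.1 hres ((σ ⁻¹ᵁ U).ι ⁻¹ᵁ (σ ⁻¹ᵁ (W ⊓ U)))
    have h := ConcreteCategory.bijective_of_isIso (((Scheme.Modules.restrictFunctor (σ ⁻¹ᵁ U).ι).map φ).app
      ((σ ⁻¹ᵁ U).ι ⁻¹ᵁ (σ ⁻¹ᵁ (W ⊓ U))))
    have key : ∀ V : X.Opens, V = σ ⁻¹ᵁ (W ⊓ U) → Function.Bijective (φ.app V) →
      Function.Bijective (φ.app (σ ⁻¹ᵁ (W ⊓ U))) := by rintro V rfl hV; exact hV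
    exact key ((σ ⁻¹ᵁ U).ι ''ᵁ (σ ⁻¹ᵁ U).ι ⁻¹ᵁ (σ ⁻¹ᵁ (W ⊓ U))) (by
      rw [Scheme.Hom.image_preimage_eq_opensRange_inf, Scheme.Opens.opensRange_ι]
      exact inf_eq_right.2 (fun z hz => hz.2)) h
  have hinj : Function.Injective (res L (show σ ⁻¹ᵁ (W ⊓ U) ≤ σ ⁻¹ᵁ W from fun z hz => hz.1)) := by
    have key : ∀ (V : X.Opens) (hV : V ≤ σ ⁻¹ᵁ W), V = σ ⁻¹ᵁ W ⊓ J.support.compl →
        Function.Injective (res L hV) := by
      rintro V hV rfl; exact res_injective_of_isInvertible hJ hLi _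
    exact key _ _ (by rw [← hpre]; rfl)
  have hu : ∀ (V : Y.Opens) (s : Γ(Y, V)), u.app V s = φ.app (σ ⁻¹ᵁ V) (σ.app V s) := fun V s => rfl
  have hcomm : ∀ s : Γ(Y, W), res L (show σ ⁻¹ᵁ (W ⊓ U) ≤ σ ⁻¹ᵁ W from fun z hz => hz.1) (u.app W s) =
      u.app (W ⊓ U) (res (Coh.structureModule Y) (inf_le_left : W ⊓ U ≤ W) s) := fun s =>
    (congr($(u.mapPresheaf.naturality (homOfLE (inf_le_left : W ⊓ U ≤ W)).op) s)).symm
  have hbij : Function.Bijective (fun s : Γ(Y, W ⊓ U) => u.app (W ⊓ U) s) := by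
    rw [funext (hu (W ⊓ U))]
    exact hφapp.comp hσapp
  refine ⟨fun a b hab => hgood.1 (hbij.1 ?_), fun t => ?_⟩
  · show u.app (W ⊓ U) _ = u.app (W ⊓ U) _
    rw [← hcomm a, ← hcomm b, hab]
  · obtain ⟨m, hm⟩ := hbij.2 (res L (show σ ⁻¹ᵁ (W ⊓ U) ≤ σ ⁻¹ᵁ W from fun z hz => hz.1) t)
    obtain ⟨s, rfl⟩ := hgood.2 m
    exact ⟨s, hinj ((hcomm s).trans hm)⟩

/-- The depth at a point of a regularly immersed closed subscheme. -/
theorem two_le_depth_of_regular {Y S : Scheme.{u}} [IsLocallyNoetherian Y] (i : S ⟶ Y) [IsClosedImmersion i] {d : ℕ}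
    (hd : 2 ≤ d) (hi : RegImm.IsRegularImmersionOfCodim .regular d i) (y : Y) (hy : y ∈ i.ker.support) :
    (2 : ℕ∞) ≤ LocCoh.depth (Y.presheaf.stalk y) (Y.presheaf.stalk y) := by
  obtain ⟨z, rfl⟩ : y ∈ Set.range i.base := by
    have := hy
    rwa [← SetLike.mem_coe, Scheme.Hom.support_ker, i.isClosedEmbedding.isClosed_range.closure_eq] at this
  obtain ⟨V, hzV, -, rs, hlen, hseq, hker⟩ := hi.2 z
  have hker' : i.ker.ideal V = Ideal.ofList rs := by rw [Scheme.Hom.ker_apply, hker]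
  letI := Y.presheaf.algebra_section_stalk ⟨i z, hzV⟩
  haveI : IsLocalization.AtPrime (Y.presheaf.stalk (i z)) (V.2.primeIdealOf ⟨i z, hzV⟩).asIdeal :=
    V.2.isLocalization_stalk ⟨i z, hzV⟩
  haveI : Module.Flat Γ(Y, V.1) (Y.presheaf.stalk (i z)) :=
    IsLocalization.flat _ (V.2.primeIdealOf ⟨i z, hzV⟩).asIdeal.primeCompl
  have hw := RingTheory.Sequence.IsWeaklyRegular.of_flat (S := Y.presheaf.stalk (i z)) hseq.toIsWeaklyRegular
  refine le_trans (by exact_mod_cast hd) ((Groth.LocCohBase.le_idealDepth_iff_exists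
    (IsLocalRing.maximalIdeal (Y.presheaf.stalk (i z))) (M := Y.presheaf.stalk (i z))
    (by rw [smul_eq_mul, Ideal.mul_top]; exact (IsLocalRing.maximalIdeal.isMaximal _).ne_top) d).2
    ⟨_, by rw [List.length_map, hlen], hw, fun r hr => ?_⟩)
  obtain ⟨a, ha, rfl⟩ := List.mem_map.1 hr
  have haI : a ∈ i.ker.ideal V := by rw [hker']; exact Ideal.subset_span ha
  have h := (Scheme.IdealSheafData.mem_support_iff_of_mem hzV).mp hy
  rw [Scheme.mem_zeroLocus_iff] at h
  have h' := h a haI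
  rw [Scheme.mem_basicOpen _ _ _ hzV] at h'
  exact h'

end Groth.BlowUpPush
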